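import Mathlib

/-! Minimal number of generators of modules over a discrete valuation ring. -/

set_option autoImplicit false
universe u v w

namespace Groth.Agent.DvrRank

open TensorProduct

variable {R : Type u} [CommRing R] [IsLocalRing R]

local notation "κ" => IsLocalRing.ResidueField R

theorem finrank_le_of_surjective {d : ℕ} {M : Type v} [AddCommGroup M] [Module R M]
    (f : (Fin d → R) →ₗ[R] M) (hf : Function.Surjective f) :
    Module.finrank κ (κ ⊗[R] M) ≤ d := by
  refine le_trans (LinearMap.finrank_le_finrank_of_surjective (f := f.baseChange κ) (LinearMap.lTensor_surjective κ hf)) ?_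
  rw [(TensorProduct.piScalarRight R κ κ (Fin d)).finrank_eq, Module.finrank_fin_fun]

theorem exists_surjective (M : Type v) [AddCommGroup M] [Module R M] [Module.Finite R M] :
    ∃ f : (Fin (Module.finrank κ (κ ⊗[R] M)) → R) →ₗ[R] M, Function.Surjective f := by
  let b := Module.finBasis κ (κ ⊗[R] M)
  choose m hm using fun i => TensorProduct.mk_surjective R M κ Ideal.Quotient.mk_surjective (b i)
  refine ⟨Fintype.linearCombination R m, ?_⟩
  rw [← LinearMap.range_eq_top, Fintype.range_linearCombination]
  exact IsLocalRing.span_eq_top_of_tmul_eq_basis m b hm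

theorem finrank_le_of_injective [IsDomain R] [IsPrincipalIdealRing R] {d : ℕ}
    {M : Type v} [AddCommGroup M] [Module R M] {N : Type w} [AddCommGroup N] [Module R N]
    (i : N →ₗ[R] M) (hi : Function.Injective i)
    (f : (Fin d → R) →ₗ[R] M) (hf : Function.Surjective f) :
    Module.finrank κ (κ ⊗[R] N) ≤ d := by
  classical
  obtain ⟨s, bs⟩ := Submodule.basisOfPid (Pi.basisFun R (Fin d)) ((LinearMap.range i).comap f)
  let e : N ≃ₗ[R] LinearMap.range i := LinearEquiv.ofInjective i hi
  let g : ((LinearMap.range i).comap f) →ₗ[R] LinearMap.range i := f.restrict fun x hx => hx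
  have hg : Function.Surjective g := fun y => by
    obtain ⟨x, hx⟩ := hf y.1
    exact ⟨⟨x, by rw [Submodule.mem_comap, hx]; exact y.2⟩, Subtype.ext hx⟩
  have hs : s ≤ d := by
    have h1 := Submodule.finrank_le ((LinearMap.range i).comap f)
    rwa [Module.finrank_eq_card_basis bs, Module.finrank_fin_fun, Fintype.card_fin] at h1
  exact le_trans (finrank_le_of_surjective ((e.symm.toLinearMap.comp g).comp bs.equivFun.symm.toLinearMap)
    ((e.symm.surjective.comp hg).comp bs.equivFun.symm.surjective)) hs

end Groth.Agent.DvrRank
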